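import Groth.Prelude.Def_W4c2conddiscmodels
import Mathlib.Data.Rat.Lemmas
import Mathlib.Tactic.LinearCombination
import Mathlib.Tactic.FieldSimp
import Mathlib.Tactic.Positivity

/-!
# Continuants of Hirzebruch-Jung fractions
-/

set_option autoImplicit false

namespace Groth.Agent.HJLib

/-- Numerator and denominator of a Hirzebruch-Jung fraction. -/
def cont : List ℤ → ℤ × ℤ
  | [] => (1, 0)
  | b :: l => (b * (cont l).1 - (cont l).2, (cont l).1)

theorem cont_pos : ∀ l : List ℤ, (∀ x ∈ l, 2 ≤ x) → 0 ≤ (cont l).2 ∧ (cont l).2 < (cont l).1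
  | [], _ => by simp [cont]
  | b :: l, h => by
    obtain ⟨h1, h2⟩ := cont_pos l fun x hx => h x (List.mem_cons_of_mem _ hx)
    have hb := h b (List.mem_cons_self ..)
    simp only [cont]
    constructor <;> nlinarith

theorem cont_coprime : ∀ l : List ℤ, IsCoprime (cont l).1 (cont l).2
  | [] => isCoprime_one_left
  | b :: l => by
    have h := (cont_coprime l).symm.neg_left.add_mul_right_left b
    simpa [cont, sub_eq_neg_add, mul_comm] using h

theorem hjVal_eq : ∀ l : List ℤ, (∀ x ∈ l, 2 ≤ x) → HJFrac.hjVal l = ((cont l).1 : ℚ) / (cont l).2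
  | [], _ => by simp [HJFrac.hjVal, cont]
  | b :: l, h => by
    have hl := fun x hx => h x (List.mem_cons_of_mem _ hx)
    obtain ⟨h1, h2⟩ := cont_pos l hl
    have h0 : ((cont l).1 : ℚ) ≠ 0 := Int.cast_ne_zero.2 (by omega)
    rw [HJFrac.hjVal, hjVal_eq l hl, inv_div]
    simp only [cont, Int.cast_sub, Int.cast_mul]
    field_simp

/-- The continuant of `b s, …, b (s + k - 1)`. -/
def tailCont (b : ℕ → ℤ) (s k : ℕ) : ℤ × ℤ := cont ((List.range' s k).map b)

theorem tailCont_succ (b : ℕ → ℤ) (s k : ℕ) :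
    tailCont b s (k + 1) = (b s * (tailCont b (s + 1) k).1 - (tailCont b (s + 1) k).2, (tailCont b (s + 1) k).1) := by
  simp [tailCont, List.range'_succ, cont]

variable {b : ℕ → ℤ} {μ : ℕ → ℤ} {l : ℕ}

theorem invariant (hsys : ∀ i, 1 ≤ i → i ≤ l → b i * μ i = μ (i - 1) + μ (i + 1)) :
    ∀ k i, i + k = l → (tailCont b (i + 1) k).1 * μ (i + 1) - (tailCont b (i + 1) k).2 * μ i = μ (l + 1)
  | 0, i, h => by
    obtain rfl : i = l := by omega
    simp [tailCont, cont]
  | k + 1, i, h => by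
    have ih := invariant hsys k (i + 1) (by omega)
    have hs := hsys (i + 1) (by omega) (by omega)
    simp only [Nat.add_sub_cancel] at hs
    rw [tailCont_succ]
    linear_combination ih + (tailCont b (i + 1 + 1) k).1 * hs

theorem sum_eq (hsys : ∀ i, 1 ≤ i → i ≤ l → b i * μ i = μ (i - 1) + μ (i + 1))
    (hpos : ∀ i, i ≤ l + 1 → 0 < μ i) :
    ∀ k i, i + k = l → ∑ j ∈ Finset.range (k + 1), 1 / ((μ (i + j) : ℚ) * (μ (i + j + 1) : ℚ)) =
      ((tailCont b (i + 1) k).1 : ℚ) / ((μ i : ℚ) * (μ (l + 1) : ℚ))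
  | 0, i, h => by
    obtain rfl : i = l := by omega
    simp [tailCont, cont]
  | k + 1, i, h => by
    have ih := sum_eq hsys hpos k (i + 1) (by omega)
    have hinv := invariant hsys (k + 1) i h
    rw [tailCont_succ] at hinv
    rw [Finset.sum_range_succ', add_zero]
    have hidx : ∀ j, i + (j + 1) = i + 1 + j := fun j => by omega
    rw [Finset.sum_congr rfl fun j _ => by rw [hidx j]]
    rw [ih]
    have e : ((tailCont b (i + 1) (k + 1)).1 : ℚ) * μ (i + 1) - (tailCont b (i + 1 + 1) k).1 * μ i = μ (l + 1) := by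
      rw [tailCont_succ]
      exact_mod_cast hinv
    have a : (μ i : ℚ) ≠ 0 := Int.cast_ne_zero.2 (hpos i (by omega)).ne'
    have b' : (μ (i + 1) : ℚ) ≠ 0 := Int.cast_ne_zero.2 (hpos (i + 1) (by omega)).ne'
    have c : (μ (l + 1) : ℚ) ≠ 0 := Int.cast_ne_zero.2 (hpos (l + 1) le_rfl).ne'
    field_simp
    linear_combination -e

/-- The fraction determines the continuant. -/
theorem cont_eq_of_hjVal {n r : ℕ} (hr : 0 < r) (hcop : Nat.Coprime r n) (hb : ∀ i, 1 ≤ i → i ≤ l → 2 ≤ b i)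
    (hl : 1 ≤ l) (hhj : (n : ℚ) / r = HJFrac.hjVal ((List.range l).map fun i => b (i + 1))) :
    tailCont b 1 l = ((n : ℤ), (r : ℤ)) := by
  have hmap : (List.range l).map (fun i => b (i + 1)) = (List.range' 1 l).map b := by
    rw [List.range'_eq_map_range, List.map_map]
    exact List.map_congr_left fun i _ => by simp [add_comm]
  have hge : ∀ x ∈ (List.range' 1 l).map b, 2 ≤ x := fun x hx => by
    obtain ⟨i, hi, rfl⟩ := List.mem_map.1 hx
    rw [List.mem_range'_1] at hi
    exact hb i hi.1 (by omega)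
  rw [hmap, hjVal_eq _ hge] at hhj
  set c := tailCont b 1 l with hc
  have hc' : cont ((List.range' 1 l).map b) = c := rfl
  rw [hc'] at hhj
  obtain ⟨h1, h2⟩ := cont_pos _ hge
  rw [hc'] at h1 h2
  have hpos : 0 < c.2 := by
    obtain ⟨l', rfl⟩ : ∃ l', l = l' + 1 := ⟨l - 1, by omega⟩
    rw [hc, tailCont_succ]
    have := cont_pos ((List.range' (1 + 1) l').map b) fun x hx => by
      obtain ⟨i, hi, rfl⟩ := List.mem_map.1 hx
      rw [List.mem_range'_1] at hi
      exact hb i (by omega) (by omega)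
    exact lt_of_le_of_lt this.1 this.2
  have hcop' : Nat.Coprime c.1.natAbs c.2.natAbs := Int.isCoprime_iff_gcd_eq_one.1 (hc' ▸ cont_coprime _)
  have hn : ((n : ℤ) : ℚ) / ((r : ℤ) : ℚ) = (c.1 : ℚ) / (c.2 : ℚ) := by rw [Int.cast_natCast, Int.cast_natCast]; exact hhj
  have := Rat.div_int_inj (Int.natCast_pos.2 hr) hpos (by simpa using hcop.symm) hcop' hn
  exact (Prod.ext this.1 this.2).symm

end Groth.Agent.HJLib
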